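import Groth.Agent.InvFG.Graded
import Mathlib.RingTheory.HopfAlgebra.Convolution
import Mathlib.RingTheory.FiniteStability

/-!
# A ring with an action of a linearly reductive group over its invariants

`A ⊗ H` with the diagonal coaction has invariants mapping onto `A` by the counit, so `A` is finitely generated
over `A^G` as soon as the invariants of `A ⊗ H` are.
-/

set_option autoImplicit false
set_option linter.unusedSectionVars false

universe u v w
open TensorProduct
noncomputable section

namespace Groth.Agent.InvFG

variable {k : Type u} [Field k] {H : Type v} [CommRing H] [HopfAlgebra k H]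
variable {A : Type w} [CommRing A] [Algebra k A] [HopfRep.Comod k H A] [GLin.IsCoactAlg k H A]

variable (k H A) in
/-- The diagonal coaction on `A ⊗ H`. -/
def diagCoact : A ⊗[k] H →ₐ[k] (A ⊗[k] H) ⊗[k] H :=
  Algebra.TensorProduct.lift
    ((Algebra.TensorProduct.map (Algebra.TensorProduct.includeLeft : A →ₐ[k] A ⊗[k] H) (AlgHom.id k H)).comp
      (GLin.coactAlgHom k H A))
    ((Algebra.TensorProduct.map (Algebra.TensorProduct.includeRight : H →ₐ[k] A ⊗[k] H) (AlgHom.id k H)).comp
      (Bialgebra.comulAlgHom k H))
    fun a b => @Commute.all ((A ⊗[k] H) ⊗[k] H) _ _ _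

lemma diagCoact_left (a : A) : diagCoact k H A (a ⊗ₜ 1) =
    (Algebra.TensorProduct.includeLeft : A →ₐ[k] A ⊗[k] H).toLinearMap.rTensor H
      (HopfRep.Comod.coact (k := k) (A := H) a) := by
  have h : diagCoact k H A (a ⊗ₜ 1) = Algebra.TensorProduct.map
      (Algebra.TensorProduct.includeLeft : A →ₐ[k] A ⊗[k] H) (AlgHom.id k H)
      (HopfRep.Comod.coact (k := k) (A := H) a) := by
    simp [diagCoact, Bialgebra.comul_one, ← Algebra.TensorProduct.one_def]
  rw [h]
  generalize HopfRep.Comod.coact (k := k) (A := H) a = t
  induction t using TensorProduct.induction_on with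
  | zero => simp
  | tmul x y => simp
  | add x y hx hy => simp only [map_add, hx, hy]

lemma diagCoact_right (x : H) : diagCoact k H A (1 ⊗ₜ x) =
    (Algebra.TensorProduct.includeRight : H →ₐ[k] A ⊗[k] H).toLinearMap.rTensor H
      (CoalgebraStruct.comul (R := k) x) := by
  have h : diagCoact k H A (1 ⊗ₜ x) = Algebra.TensorProduct.map
      (Algebra.TensorProduct.includeRight : H →ₐ[k] A ⊗[k] H) (AlgHom.id k H)
      (CoalgebraStruct.comul (R := k) x) := by
    simp [diagCoact, GLin.IsCoactAlg.coact_one]
  rw [h]
  generalize CoalgebraStruct.comul (R := k) x = t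
  induction t using TensorProduct.induction_on with
  | zero => simp
  | tmul x y => simp
  | add x y hx hy => simp only [map_add, hx, hy]

/-- The comodule laws on the image of an equivariant map. -/
lemma coassoc_of {B C : Type*} [AddCommGroup B] [Module k B] [AddCommGroup C] [Module k C]
    (δ : B →ₗ[k] B ⊗[k] H) (D : C →ₗ[k] C ⊗[k] H) (f : B →ₗ[k] C) (hf : ∀ b, D (f b) = f.rTensor H (δ b))
    (hδ : ∀ b, TensorProduct.assoc k B H H (δ.rTensor H (δ b)) =
      (CoalgebraStruct.comul (R := k) (A := H)).lTensor B (δ b)) (b : B) :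
    TensorProduct.assoc k C H H (D.rTensor H (D (f b))) =
      (CoalgebraStruct.comul (R := k) (A := H)).lTensor C (D (f b)) := by
  rw [hf]
  have e1 : ∀ t : B ⊗[k] H, D.rTensor H (f.rTensor H t) = (f.rTensor H).rTensor H (δ.rTensor H t) := fun t => by
    induction t using TensorProduct.induction_on with
    | zero => simp
    | tmul x y => simp [hf]
    | add x y hx hy => simp only [map_add, hx, hy]
  have e2 : ∀ t : (B ⊗[k] H) ⊗[k] H, TensorProduct.assoc k C H H ((f.rTensor H).rTensor H t) =
      f.rTensor (H ⊗[k] H) (TensorProduct.assoc k B H H t) := fun t => by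
    induction t using TensorProduct.induction_on with
    | zero => simp
    | tmul s z =>
      induction s using TensorProduct.induction_on with
      | zero => simp
      | tmul x y => simp
      | add x y hx hy => simp only [map_add, add_tmul, hx, hy]
    | add x y hx hy => simp only [map_add, hx, hy]
  rw [e1, e2, hδ]
  generalize δ b = t
  induction t using TensorProduct.induction_on with
  | zero => simp
  | tmul x y => simp
  | add x y hx hy => simp only [map_add, hx, hy]

lemma counit_of {B C : Type*} [AddCommGroup B] [Module k B] [AddCommGroup C] [Module k C]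
    (δ : B →ₗ[k] B ⊗[k] H) (D : C →ₗ[k] C ⊗[k] H) (f : B →ₗ[k] C) (hf : ∀ b, D (f b) = f.rTensor H (δ b))
    (hδ : ∀ b, (CoalgebraStruct.counit (R := k) (A := H)).lTensor B (δ b) = b ⊗ₜ 1) (b : B) :
    (CoalgebraStruct.counit (R := k) (A := H)).lTensor C (D (f b)) = f b ⊗ₜ 1 := by
  rw [hf]
  refine Eq.trans ?_ (congrArg (f.rTensor k) (hδ b))
  generalize δ b = t
  induction t using TensorProduct.induction_on with
  | zero => simp
  | tmul x y => simp
  | add x y hx hy => simp only [map_add, hx, hy]

/-- `A ⊗ H` with the diagonal coaction. -/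
@[reducible] def diagComod : HopfRep.Comod k H (A ⊗[k] H) where
  coact := (diagCoact k H A).toLinearMap
  coassoc := by
    have h : ((Algebra.TensorProduct.assoc k k k (A ⊗[k] H) H H).toAlgHom.comp
        ((Algebra.TensorProduct.map (diagCoact k H A) (AlgHom.id k H)).comp (diagCoact k H A))) =
        (Algebra.TensorProduct.map (AlgHom.id k (A ⊗[k] H)) (Bialgebra.comulAlgHom k H)).comp
          (diagCoact k H A) := by
      have e1 : ∀ t, (Algebra.TensorProduct.assoc k k k (A ⊗[k] H) H H).toAlgHom
          ((Algebra.TensorProduct.map (diagCoact k H A) (AlgHom.id k H)) t) =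
          TensorProduct.assoc k (A ⊗[k] H) H H ((diagCoact k H A).toLinearMap.rTensor H t) := fun t => by
        induction t using TensorProduct.induction_on with
        | zero => simp
        | tmul a b =>
          simp only [Algebra.TensorProduct.map_tmul, AlgHom.id_apply, LinearMap.rTensor_tmul,
            AlgHom.toLinearMap_apply]
          generalize diagCoact k H A a = s
          induction s using TensorProduct.induction_on with
          | zero => simp
          | tmul x y => simp
          | add x y hx hy => simp only [map_add, add_tmul, hx, hy]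
        | add a b ha hb => simp only [map_add, ha, hb]
      have e2 : ∀ t, (Algebra.TensorProduct.map (AlgHom.id k (A ⊗[k] H)) (Bialgebra.comulAlgHom k H)) t =
          (CoalgebraStruct.comul (R := k) (A := H)).lTensor (A ⊗[k] H) t := fun t => by
        induction t using TensorProduct.induction_on with
        | zero => simp
        | tmul a b => simp
        | add a b ha hb => simp only [map_add, ha, hb]
      refine Algebra.TensorProduct.ext (AlgHom.ext fun a => ?_) (AlgHom.ext fun x => ?_)
      · simp only [AlgHom.comp_apply, AlgHom.restrictScalars_apply, Algebra.TensorProduct.includeLeft_apply, e1, e2]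
        exact coassoc_of (HopfRep.Comod.coact (k := k) (A := H) (V := A)) (diagCoact k H A).toLinearMap
          (Algebra.TensorProduct.includeLeft : A →ₐ[k] A ⊗[k] H).toLinearMap diagCoact_left
          (fun b => LinearMap.congr_fun (HopfRep.Comod.coassoc (k := k) (A := H) (V := A)) b) a
      · simp only [AlgHom.comp_apply, AlgHom.restrictScalars_apply, Algebra.TensorProduct.includeRight_apply, e1, e2]
        exact coassoc_of (CoalgebraStruct.comul (R := k) (A := H)) (diagCoact k H A).toLinearMap
          (Algebra.TensorProduct.includeRight : H →ₐ[k] A ⊗[k] H).toLinearMap diagCoact_right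
          (fun b => Coalgebra.coassoc_apply b) x
    refine LinearMap.ext fun f => ?_
    have h2 := AlgHom.congr_fun h f
    simp only [AlgHom.comp_apply] at h2
    simp only [LinearMap.comp_apply, AlgHom.toLinearMap_apply, LinearEquiv.coe_coe]
    have e1 : ∀ t, (Algebra.TensorProduct.assoc k k k (A ⊗[k] H) H H).toAlgHom
        ((Algebra.TensorProduct.map (diagCoact k H A) (AlgHom.id k H)) t) =
        TensorProduct.assoc k (A ⊗[k] H) H H ((diagCoact k H A).toLinearMap.rTensor H t) := fun t => by
      induction t using TensorProduct.induction_on with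
      | zero => simp
      | tmul a b =>
        simp only [Algebra.TensorProduct.map_tmul, AlgHom.id_apply, LinearMap.rTensor_tmul,
          AlgHom.toLinearMap_apply]
        generalize diagCoact k H A a = s
        induction s using TensorProduct.induction_on with
        | zero => simp
        | tmul x y => simp
        | add x y hx hy => simp only [map_add, add_tmul, hx, hy]
      | add a b ha hb => simp only [map_add, ha, hb]
    have e2 : ∀ t, (Algebra.TensorProduct.map (AlgHom.id k (A ⊗[k] H)) (Bialgebra.comulAlgHom k H)) t =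
        (CoalgebraStruct.comul (R := k) (A := H)).lTensor (A ⊗[k] H) t := fun t => by
      induction t using TensorProduct.induction_on with
      | zero => simp
      | tmul a b => simp
      | add a b ha hb => simp only [map_add, ha, hb]
    rw [e1, e2] at h2
    exact h2
  counit_comp := by
    refine TensorProduct.ext' fun a x => ?_
    have hl := counit_of (HopfRep.Comod.coact (k := k) (A := H) (V := A)) (diagCoact k H A).toLinearMap
      (Algebra.TensorProduct.includeLeft : A →ₐ[k] A ⊗[k] H).toLinearMap diagCoact_left
      (fun b => LinearMap.congr_fun (HopfRep.Comod.counit_comp (k := k) (A := H) (V := A)) b) a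
    have hr := counit_of (CoalgebraStruct.comul (R := k) (A := H)) (diagCoact k H A).toLinearMap
      (Algebra.TensorProduct.includeRight : H →ₐ[k] A ⊗[k] H).toLinearMap diagCoact_right
      (fun b => Coalgebra.lTensor_counit_comul b) x
    simp only [AlgHom.toLinearMap_apply, Algebra.TensorProduct.includeLeft_apply,
      Algebra.TensorProduct.includeRight_apply] at hl hr
    have e : ∀ t : (A ⊗[k] H) ⊗[k] H, (CoalgebraStruct.counit (R := k) (A := H)).lTensor (A ⊗[k] H) t =
        Algebra.TensorProduct.map (AlgHom.id k (A ⊗[k] H)) (Bialgebra.counitAlgHom k H) t := fun t => by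
      induction t using TensorProduct.induction_on with
      | zero => simp
      | tmul a b => simp
      | add a b ha hb => simp only [map_add, ha, hb]
    simp only [LinearMap.comp_apply, AlgHom.toLinearMap_apply, LinearMap.flip_apply, TensorProduct.mk_apply]
    rw [e, show a ⊗ₜ[k] x = (a ⊗ₜ[k] (1 : H)) * ((1 : A) ⊗ₜ[k] x) by simp, map_mul, map_mul, ← e, ← e, hl, hr]
    simp

lemma diagCoactAlg :
    letI := diagComod (k := k) (H := H) (A := A)
    GLin.IsCoactAlg k H (A ⊗[k] H) :=
  letI := diagComod (k := k) (H := H) (A := A)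
  { coact_one := map_one (diagCoact k H A)
    coact_mul := map_mul (diagCoact k H A) }

open WithConv in
/-- Every element of `A` is the value at the counit of an invariant of `A ⊗ H`. -/
lemma diag_invariant (a : A) :
    diagCoact k H A (Algebra.TensorProduct.map (AlgHom.id k A) (HopfAlgebra.antipodeAlgHom k H)
      (HopfRep.Comod.coact (k := k) (A := H) a)) =
      (Algebra.TensorProduct.map (AlgHom.id k A) (HopfAlgebra.antipodeAlgHom k H)
        (HopfRep.Comod.coact (k := k) (A := H) a)) ⊗ₜ 1 := by
  let ι₁ : H →ₐ[k] (A ⊗[k] H) ⊗[k] H :=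
    (Algebra.TensorProduct.includeLeft : A ⊗[k] H →ₐ[k] (A ⊗[k] H) ⊗[k] H).comp Algebra.TensorProduct.includeRight
  let ι₂ : H →ₐ[k] (A ⊗[k] H) ⊗[k] H := Algebra.TensorProduct.includeRight
  let S := HopfAlgebra.antipodeAlgHom k H
  let E : H →ₐ[k] (A ⊗[k] H) ⊗[k] H := (ofConv (toConv ι₁ * toConv ι₂)).comp S
  have hl : ∀ h : H →ₐ[k] (A ⊗[k] H) ⊗[k] H, toConv h * toConv (h.comp S) = 1 := fun h => by
    refine WithConv.ext ?_
    have e := congr_arg (fun z => h.comp (ofConv z)) (mul_inv_cancel (toConv (AlgHom.id k H)))
    simp only [AlgHom.comp_convMul_distrib, ofConv_toConv] at e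
    refine Eq.trans ?_ (e.trans ?_)
    · rfl
    · exact AlgHom.ext fun x => by simp [AlgHom.convOne_def]
  have hr : ∀ h : H →ₐ[k] (A ⊗[k] H) ⊗[k] H, toConv (h.comp S) * toConv h = 1 := fun h => by
    refine WithConv.ext ?_
    have e := congr_arg (fun z => h.comp (ofConv z)) (inv_mul_cancel (toConv (AlgHom.id k H)))
    simp only [AlgHom.comp_convMul_distrib, ofConv_toConv] at e
    refine Eq.trans ?_ (e.trans ?_)
    · rfl
    · exact AlgHom.ext fun x => by simp [AlgHom.convOne_def]
  have hgrp : toConv ι₂ * toConv E = toConv (ι₁.comp S) :=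
    (left_inv_eq_right_inv (M := WithConv (H →ₐ[k] (A ⊗[k] H) ⊗[k] H)) (hr ι₁) (Eq.trans
      (mul_assoc (G := WithConv (H →ₐ[k] (A ⊗[k] H) ⊗[k] H)) (toConv ι₁) (toConv ι₂) (toConv E)).symm
      (hl (ofConv (toConv ι₁ * toConv ι₂))))).symm
  have hE : ∀ x : H, diagCoact k H A (1 ⊗ₜ HopfAlgebra.antipode k x) = E x := fun x => by
    rw [diagCoact_right]
    simp only [E, S, AlgHom.comp_apply, HopfAlgebra.antipodeAlgHom_apply, AlgHom.convMul_apply]
    generalize CoalgebraStruct.comul (R := k) (HopfAlgebra.antipode k x) = t
    induction t using TensorProduct.induction_on with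
    | zero => simp
    | tmul y z => simp [ι₁, ι₂]
    | add y z hy hz => simp only [map_add, hy, hz]
  let L : (A ⊗[k] H) ⊗[k] H →ₗ[k] (A ⊗[k] H) ⊗[k] H :=
    LinearMap.mul' k _ ∘ₗ TensorProduct.map
      ((Algebra.TensorProduct.includeLeft : A →ₐ[k] A ⊗[k] H).toLinearMap.rTensor H) E.toLinearMap
  have h1 : ∀ s : A ⊗[k] H, diagCoact k H A
      (Algebra.TensorProduct.map (AlgHom.id k A) (HopfAlgebra.antipodeAlgHom k H) s) =
      L ((HopfRep.Comod.coact (k := k) (A := H)).rTensor H s) := fun s => by
    induction s using TensorProduct.induction_on with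
    | zero => simp
    | tmul b x =>
      rw [Algebra.TensorProduct.map_tmul, AlgHom.id_apply,
        show b ⊗ₜ[k] HopfAlgebra.antipodeAlgHom k H x = (b ⊗ₜ[k] (1 : H)) * (1 ⊗ₜ HopfAlgebra.antipode k x) by simp,
        map_mul, diagCoact_left, hE]
      simp [L]
    | add x y hx hy => simp only [map_add, hx, hy]
  rw [h1]
  have hco := LinearMap.congr_fun (HopfRep.Comod.coassoc (k := k) (A := H) (V := A)) a
  simp only [LinearMap.comp_apply, LinearEquiv.coe_coe, ← LinearEquiv.eq_symm_apply] at hco
  rw [hco]
  generalize HopfRep.Comod.coact (k := k) (A := H) a = t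
  induction t using TensorProduct.induction_on with
  | zero => simp
  | tmul b z =>
    have h2 := congrArg (fun f => (ofConv f) z) hgrp
    simp only [AlgHom.convMul_apply, ofConv_toConv] at h2
    have h3 : L ((TensorProduct.assoc k A H H).symm (b ⊗ₜ[k] CoalgebraStruct.comul (R := k) z)) =
        ((b ⊗ₜ[k] (1 : H)) ⊗ₜ[k] (1 : H)) * (ι₁.comp S) z := by
      rw [← h2]
      generalize CoalgebraStruct.comul (R := k) z = u
      induction u using TensorProduct.induction_on with
      | zero => simp
      | tmul y w => simp [L, E, ι₂, ← mul_assoc]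
      | add y w hy hw => simp only [map_add, tmul_add, mul_add, hy, hw]
    rw [LinearMap.lTensor_tmul, h3]
    simp [ι₁, S]
  | add x y hx hy => simp only [map_add, add_tmul, hx, hy]

/-- `A` is of finite type over its invariants. -/
theorem finiteType_invariants [Algebra.FiniteType k H] [IsNoetherianRing A]
    (hG : HopfRep.IsLinearlyReductive k H) : Algebra.FiniteType (GLin.invariants k H A) A := by
  classical
  letI := diagComod (k := k) (H := H) (A := A)
  haveI := diagCoactAlg (k := k) (H := H) (A := A)
  have hAC : Hoch.IsComodHom H (IsScalarTower.toAlgHom k A (A ⊗[k] H)).toLinearMap := by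
    refine LinearMap.ext fun a => ?_
    refine (diagCoact_left a).trans ?_
    rfl
  obtain ⟨s, hs⟩ := exists_invariants_adjoin (k := k) (H := H) (A := A) (C := A ⊗[k] H) hG hAC
  let π : A ⊗[k] H →ₐ[k] A := (Algebra.TensorProduct.rid k k A).toAlgHom.comp
    (Algebra.TensorProduct.map (AlgHom.id k A) (Bialgebra.counitAlgHom k H))
  refine ⟨⟨s.image π, eq_top_iff.2 fun a _ => ?_⟩⟩
  let j := Algebra.TensorProduct.map (AlgHom.id k A) (HopfAlgebra.antipodeAlgHom k H)
      (HopfRep.Comod.coact (k := k) (A := H) a)
  have hj : j ∈ GLin.invariants k H (A ⊗[k] H) := diag_invariant a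
  have hπj : π j = a := by
    have h := congrArg (Algebra.TensorProduct.rid k k A)
      (LinearMap.congr_fun (HopfRep.Comod.counit_comp (k := k) (A := H) (V := A)) a)
    simp only [LinearMap.comp_apply, LinearMap.flip_apply, TensorProduct.mk_apply,
      Algebra.TensorProduct.rid_tmul, one_smul] at h
    refine Eq.trans ?_ h
    simp only [π, j]
    generalize HopfRep.Comod.coact (k := k) (A := H) a = t
    induction t using TensorProduct.induction_on with
    | zero => simp
    | tmul b x =>
      simp only [AlgHom.comp_apply, Algebra.TensorProduct.map_tmul, AlgHom.id_apply, LinearMap.lTensor_tmul,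
        AlgEquiv.toAlgHom_eq_coe, AlgEquiv.coe_toAlgHom]
      congr 2
      exact AlgHom.congr_fun (AlgHom.counitAlgHom_comp_antipodeAlgHom (R := k) (A := H)) x
    | add x y hx hy => simp only [map_add, hx, hy]
  rw [hs] at hj
  have h : π j ∈ Subalgebra.map π _ := ⟨j, hj, rfl⟩
  rw [← hπj]
  refine (?_ : (Algebra.adjoin k _).map π ≤ (Algebra.adjoin (GLin.invariants k H A) _).restrictScalars k) h
  rw [AlgHom.map_adjoin, Algebra.adjoin_le_iff]
  rintro _ ⟨c, ⟨b, hb, rfl⟩ | hc, rfl⟩
  · have e : π (algebraMap A (A ⊗[k] H) b) = b := by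
      show Algebra.TensorProduct.rid k k A ((Algebra.TensorProduct.map (AlgHom.id k A)
        (Bialgebra.counitAlgHom k H)) (b ⊗ₜ[k] (1 : H))) = b
      rw [Algebra.TensorProduct.map_tmul, AlgHom.id_apply, map_one, Algebra.TensorProduct.rid_tmul, one_smul]
    rw [e]
    exact (Algebra.adjoin (GLin.invariants k H A) _).algebraMap_mem ⟨b, hb⟩
  · rw [SetLike.mem_coe, Subalgebra.mem_restrictScalars]
    refine Algebra.subset_adjoin ?_
    rw [Finset.coe_image]
    exact ⟨c, hc, rfl⟩

end Groth.Agent.InvFG
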