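import Groth.Agent.Comod.Reynolds
import Groth.Agent.Comod.Corep
import Groth.Agent.Comod.Coeff
import Groth.Prelude.Def_GLin
import Mathlib.RingTheory.Polynomial.Basic
import Mathlib.RingTheory.FiniteType

/-!
# Invariants of a finitely generated algebra over a Noetherian base

A linearly reductive group acts on a Noetherian ring `A` and equivariantly on a finitely generated `A`-algebra
`C`; then `C^G` is finitely generated over `A^G`.
-/

set_option autoImplicit false
set_option linter.unusedSectionVars false

universe u v w w'
open TensorProduct Groth.Agent.Comod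
noncomputable section

namespace Groth.Agent.InvFG

variable {k : Type u} [Field k] {H : Type v} [CommRing H] [HopfAlgebra k H]
variable {A : Type w} [CommRing A] [Algebra k A] [HopfRep.Comod k H A] [GLin.IsCoactAlg k H A]
variable {d : ℕ} {M : Matrix (Fin d) (Fin d) H}

variable (k A) in
/-- The coaction on polynomials over `A` given by a linear action on the variables. -/
def polyCoact (M : Matrix (Fin d) (Fin d) H) : MvPolynomial (Fin d) A →ₐ[k] MvPolynomial (Fin d) A ⊗[k] H :=
  { MvPolynomial.eval₂Hom
      (((Algebra.TensorProduct.map (IsScalarTower.toAlgHom k A (MvPolynomial (Fin d) A)) (AlgHom.id k H)).comp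
        (GLin.coactAlgHom k H A)).toRingHom)
      (fun j => ∑ i, (MvPolynomial.X i : MvPolynomial (Fin d) A) ⊗ₜ[k] M i j) with
    commutes' := fun c => by
      simp only [RingHom.toMonoidHom_eq_coe, OneHom.toFun_eq_coe, MonoidHom.toOneHom_coe, MonoidHom.coe_coe,
        IsScalarTower.algebraMap_apply k A (MvPolynomial (Fin d) A), MvPolynomial.algebraMap_eq, MvPolynomial.eval₂Hom_C]
      exact AlgHom.commutes _ c }

lemma polyCoact_C (a : A) : polyCoact k A M (MvPolynomial.C a) =
    Algebra.TensorProduct.map (IsScalarTower.toAlgHom k A (MvPolynomial (Fin d) A)) (AlgHom.id k H)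
      (HopfRep.Comod.coact (k := k) (A := H) a) :=
  MvPolynomial.eval₂Hom_C _ _ a

lemma polyCoact_X (j : Fin d) : polyCoact k A M (MvPolynomial.X j) = ∑ i, MvPolynomial.X i ⊗ₜ[k] M i j :=
  MvPolynomial.eval₂Hom_X' _ _ j

lemma algHom_ext' {R : Type*} [CommRing R] [Algebra k R] {f g : MvPolynomial (Fin d) A →ₐ[k] R}
    (h1 : ∀ a, f (MvPolynomial.C a) = g (MvPolynomial.C a)) (h2 : ∀ i, f (MvPolynomial.X i) = g (MvPolynomial.X i)) :
    f = g :=
  AlgHom.coe_ringHom_injective (MvPolynomial.ringHom_ext h1 h2)

/-- The comodule of polynomials. -/
@[reducible] def polyComod (hM : IsCorep (k := k) M) : HopfRep.Comod k H (MvPolynomial (Fin d) A) where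
  coact := (polyCoact k A M).toLinearMap
  coassoc := by
    let ι := IsScalarTower.toAlgHom k A (MvPolynomial (Fin d) A)
    have h : ((Algebra.TensorProduct.assoc k k k (MvPolynomial (Fin d) A) H H).toAlgHom.comp
        ((Algebra.TensorProduct.map (polyCoact k A M) (AlgHom.id k H)).comp (polyCoact k A M))) =
        (Algebra.TensorProduct.map (AlgHom.id k (MvPolynomial (Fin d) A)) (Bialgebra.comulAlgHom k H)).comp (polyCoact k A M) := by
      refine algHom_ext' (fun a => ?_) fun j => ?_
      · have h := LinearMap.congr_fun (HopfRep.Comod.coassoc (k := k) (A := H) (V := A)) a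
        simp only [LinearMap.comp_apply, LinearEquiv.coe_coe] at h
        have h' := congrArg (Algebra.TensorProduct.map ι (AlgHom.id k (H ⊗[k] H))) h
        simp only [AlgHom.comp_apply]
        rw [polyCoact_C (M := M) a]
        have e1 : ∀ t : A ⊗[k] H, (Algebra.TensorProduct.assoc k k k (MvPolynomial (Fin d) A) H H).toAlgHom
            ((Algebra.TensorProduct.map (polyCoact k A M) (AlgHom.id k H))
              (Algebra.TensorProduct.map ι (AlgHom.id k H) t)) =
            Algebra.TensorProduct.map ι (AlgHom.id k (H ⊗[k] H))
              (TensorProduct.assoc k A H H ((HopfRep.Comod.coact (k := k) (A := H)).rTensor H t)) := fun t => by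
          induction t using TensorProduct.induction_on with
          | zero => simp
          | tmul a x =>
            simp only [Algebra.TensorProduct.map_tmul, AlgHom.id_apply, LinearMap.rTensor_tmul]
            rw [show ι a = MvPolynomial.C a from rfl, polyCoact_C]
            generalize HopfRep.Comod.coact (k := k) (A := H) a = s
            induction s using TensorProduct.induction_on with
            | zero => simp
            | tmul b y => simp [ι, MvPolynomial.algebraMap_eq]
            | add s s' hs hs' => simp only [map_add, add_tmul, hs, hs']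
          | add s s' hs hs' => simp only [map_add, hs, hs']
        have e2 : ∀ t : A ⊗[k] H, Algebra.TensorProduct.map ι (AlgHom.id k (H ⊗[k] H))
            ((CoalgebraStruct.comul (R := k) (A := H)).lTensor A t) =
            Algebra.TensorProduct.map (AlgHom.id k (MvPolynomial (Fin d) A)) (Bialgebra.comulAlgHom k H)
              (Algebra.TensorProduct.map ι (AlgHom.id k H) t) := fun t => by
          induction t using TensorProduct.induction_on with
          | zero => simp
          | tmul a x => simp
          | add s s' hs hs' => simp only [map_add, hs, hs']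
        rw [e1, ← e2]
        exact h'
      · simp only [AlgHom.comp_apply, polyCoact_X, map_sum, Algebra.TensorProduct.map_tmul, AlgHom.id_apply,
          TensorProduct.sum_tmul, AlgEquiv.coe_algHom, Algebra.TensorProduct.assoc_tmul]
        rw [Finset.sum_comm]
        refine Finset.sum_congr rfl fun i _ => ?_
        rw [← TensorProduct.tmul_sum]
        congr 1
        have h := congrFun (congrFun hM.map_comul i) j
        simp only [Matrix.map_apply, Matrix.mul_apply, Algebra.TensorProduct.includeLeft_apply,
          Algebra.TensorProduct.includeRight_apply, Algebra.TensorProduct.tmul_mul_tmul, mul_one, one_mul] at h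
        exact h.symm
    refine LinearMap.ext fun f => ?_
    have h2 := AlgHom.congr_fun h f
    simp only [LinearMap.comp_apply, AlgHom.toLinearMap_apply, LinearEquiv.coe_coe]
    simp only [AlgHom.comp_apply] at h2
    have e1 : ∀ t, (Algebra.TensorProduct.map (polyCoact k A M) (AlgHom.id k H)) t =
        (polyCoact k A M).toLinearMap.rTensor H t := fun t => by
      induction t using TensorProduct.induction_on with
      | zero => simp
      | tmul a b => simp
      | add a b ha hb => simp only [map_add, ha, hb]
    have e2 : ∀ t, (Algebra.TensorProduct.map (AlgHom.id k (MvPolynomial (Fin d) A)) (Bialgebra.comulAlgHom k H)) t =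
        (CoalgebraStruct.comul (R := k) (A := H)).lTensor (MvPolynomial (Fin d) A) t := fun t => by
      induction t using TensorProduct.induction_on with
      | zero => simp
      | tmul a b => simp
      | add a b ha hb => simp only [map_add, ha, hb]
    rw [e1, e2] at h2
    exact h2
  counit_comp := by
    have h : (Algebra.TensorProduct.map (AlgHom.id k (MvPolynomial (Fin d) A)) (Bialgebra.counitAlgHom k H)).comp (polyCoact k A M) =
        Algebra.TensorProduct.includeLeft := by
      refine algHom_ext' (fun a => ?_) fun j => ?_
      · have h := LinearMap.congr_fun (HopfRep.Comod.counit_comp (k := k) (A := H) (V := A)) a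
        simp only [LinearMap.comp_apply, LinearMap.flip_apply, TensorProduct.mk_apply] at h
        have h' := congrArg (Algebra.TensorProduct.map (IsScalarTower.toAlgHom k A (MvPolynomial (Fin d) A)) (AlgHom.id k k)) h
        rw [AlgHom.comp_apply, polyCoact_C (M := M) a]
        have e : ∀ t : A ⊗[k] H, Algebra.TensorProduct.map (AlgHom.id k (MvPolynomial (Fin d) A)) (Bialgebra.counitAlgHom k H)
            (Algebra.TensorProduct.map (IsScalarTower.toAlgHom k A (MvPolynomial (Fin d) A)) (AlgHom.id k H) t) =
            Algebra.TensorProduct.map (IsScalarTower.toAlgHom k A (MvPolynomial (Fin d) A)) (AlgHom.id k k)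
              ((CoalgebraStruct.counit (R := k) (A := H)).lTensor A t) := fun t => by
          induction t using TensorProduct.induction_on with
          | zero => simp
          | tmul b x => simp
          | add s s' hs hs' => simp only [map_add, hs, hs']
        rw [e]
        exact h'.trans (by simp)
      · simp only [AlgHom.comp_apply, polyCoact_X, map_sum, Algebra.TensorProduct.map_tmul, AlgHom.id_apply,
          Algebra.TensorProduct.includeLeft_apply]
        have hc : ∀ i, Bialgebra.counitAlgHom k H (M i j) = if i = j then 1 else 0 := fun i => by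
          have := congrFun (congrFun hM.map_counit i) j
          simpa [Matrix.one_apply] using this
        rw [Finset.sum_eq_single j]
        · rw [hc, if_pos rfl]
        · intro i _ hi; rw [hc, if_neg hi, TensorProduct.tmul_zero]
        · simp
    refine LinearMap.ext fun f => ?_
    have h2 := AlgHom.congr_fun h f
    simp only [LinearMap.comp_apply, AlgHom.toLinearMap_apply, LinearMap.flip_apply, TensorProduct.mk_apply]
    simp only [AlgHom.comp_apply, Algebra.TensorProduct.includeLeft_apply] at h2
    rw [← h2]
    generalize polyCoact k A M f = t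
    induction t using TensorProduct.induction_on with
    | zero => simp
    | tmul a b => simp
    | add a b ha hb => simp only [map_add, ha, hb]

lemma polyCoactAlg (hM : IsCorep (k := k) M) :
    letI := polyComod (A := A) hM
    GLin.IsCoactAlg k H (MvPolynomial (Fin d) A) :=
  letI := polyComod (A := A) hM
  { coact_one := map_one (polyCoact k A M)
    coact_mul := map_mul (polyCoact k A M) }

variable (k A d) in
/-- The substitution `X ↦ X T`. -/
def degMap : MvPolynomial (Fin d) A →ₐ[k] Polynomial (MvPolynomial (Fin d) A) :=
  (MvPolynomial.aeval (R := A) fun i => Polynomial.C (MvPolynomial.X i) * Polynomial.X).restrictScalars k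

lemma coeff_degMap (f : MvPolynomial (Fin d) A) (e : ℕ) :
    (degMap k A d f).coeff e = MvPolynomial.homogeneousComponent e f := by
  induction f using MvPolynomial.induction_on' with
  | monomial s a =>
    have h : degMap k A d (MvPolynomial.monomial s a) = Polynomial.monomial s.degree (MvPolynomial.monomial s a) := by
      rw [degMap, AlgHom.restrictScalars_apply, MvPolynomial.aeval_monomial, ← Polynomial.C_mul_X_pow_eq_monomial,
        MvPolynomial.monomial_eq]
      simp only [mul_pow, Finsupp.prod, Finset.prod_mul_distrib, Finset.prod_pow_eq_pow_sum, map_mul, map_prod, map_pow]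
      rw [show s.degree = ∑ i ∈ s.support, s i from rfl, mul_assoc]
      rfl
    rw [h, Polynomial.coeff_monomial,
      MvPolynomial.homogeneousComponent_of_mem (MvPolynomial.isHomogeneous_monomial (d := s) a rfl)]
    by_cases he : s.degree = e
    · rw [if_pos he, if_pos he.symm]
    · rw [if_neg he, if_neg (Ne.symm he)]
  | add p q hp hq => rw [map_add, Polynomial.coeff_add, hp, hq, map_add]

/-- The homogeneous components are equivariant. -/
lemma coact_homogeneousComponent (hM : IsCorep (k := k) M) (e : ℕ) :
    letI := polyComod (A := A) hM
    Hoch.IsComodHom H ((MvPolynomial.homogeneousComponent e :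
      MvPolynomial (Fin d) A →ₗ[A] MvPolynomial (Fin d) A).restrictScalars k) := by
  letI := polyComod (A := A) hM
  let R := MvPolynomial (Fin d) A
  let σ := polyCoact k A M
  let Λ : Polynomial R ⊗[k] H →ₐ[k] Polynomial (R ⊗[k] H) :=
    Algebra.TensorProduct.lift (Polynomial.mapAlgHom (Algebra.TensorProduct.includeLeft : R →ₐ[k] R ⊗[k] H))
      ((IsScalarTower.toAlgHom k (R ⊗[k] H) (Polynomial (R ⊗[k] H))).comp Algebra.TensorProduct.includeRight)
      fun a b => @Commute.all (Polynomial (R ⊗[k] H)) _ _ _
  have hΛ : ∀ (p : Polynomial R) (x : H) (j : ℕ), (Λ (p ⊗ₜ[k] x)).coeff j = p.coeff j ⊗ₜ[k] x := fun p x j => by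
    simp [Λ, Polynomial.coeff_map]
  have key : (Λ.comp ((Algebra.TensorProduct.map (degMap k A d) (AlgHom.id k H)).comp σ)) =
      (Polynomial.mapAlgHom σ).comp (degMap k A d) := by
    refine algHom_ext' (R := Polynomial (MvPolynomial (Fin d) A ⊗[k] H)) (fun a => ?_) fun j => ?_
    · simp only [AlgHom.comp_apply, σ, polyCoact_C]
      rw [show degMap k A d (MvPolynomial.C a) = Polynomial.C (MvPolynomial.C a) by simp [degMap],
        Polynomial.coe_mapAlgHom, Polynomial.map_C]
      refine Eq.trans ?_ (congrArg Polynomial.C (polyCoact_C a)).symm
      generalize HopfRep.Comod.coact (k := k) (A := H) a = t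
      induction t using TensorProduct.induction_on with
      | zero => simp
      | tmul b x =>
        refine Polynomial.ext fun i => ?_
        simp only [Algebra.TensorProduct.map_tmul, AlgHom.id_apply, hΛ]
        rw [show degMap k A d ((IsScalarTower.toAlgHom k A R) b) = Polynomial.C (MvPolynomial.C b) by simp [degMap, R],
          Polynomial.coeff_C, Polynomial.coeff_C]
        split_ifs
        · rfl
        · rw [zero_tmul]
      | add s s' hs hs' => simp only [map_add, hs, hs']
    · simp only [AlgHom.comp_apply, σ, polyCoact_X, map_sum, Algebra.TensorProduct.map_tmul, AlgHom.id_apply]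
      rw [show ∀ i, degMap k A d (MvPolynomial.X i) = Polynomial.C (MvPolynomial.X i) * Polynomial.X from
        fun i => by simp [degMap]]
      rw [Polynomial.coe_mapAlgHom, Polynomial.map_mul, Polynomial.map_C, Polynomial.map_X]
      rw [show (polyCoact k A M : MvPolynomial (Fin d) A →+* MvPolynomial (Fin d) A ⊗[k] H) (MvPolynomial.X j) =
        polyCoact k A M (MvPolynomial.X j) from rfl, polyCoact_X]
      refine Polynomial.ext fun i => ?_
      simp only [Polynomial.finsetSum_coeff, hΛ, Polynomial.coeff_C_mul, Polynomial.coeff_X]
      split_ifs <;> simp [show ∀ l, degMap k A d (MvPolynomial.X l) = Polynomial.C (MvPolynomial.X l) * Polynomial.X from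
        fun l => by simp [degMap], Polynomial.coeff_X, *]
  refine LinearMap.ext fun f => ?_
  show σ (MvPolynomial.homogeneousComponent e f) = ((MvPolynomial.homogeneousComponent e :
    MvPolynomial (Fin d) A →ₗ[A] MvPolynomial (Fin d) A).restrictScalars k).rTensor H (σ f)
  have h := congrArg (fun p => Polynomial.coeff p e) (AlgHom.congr_fun key f)
  simp only [AlgHom.comp_apply, Polynomial.coe_mapAlgHom, Polynomial.coeff_map, coeff_degMap] at h
  refine (h.symm.trans ?_ : σ (MvPolynomial.homogeneousComponent e f) = _)
  generalize σ f = t
  induction t using TensorProduct.induction_on with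
  | zero => simp
  | tmul p x => rw [Algebra.TensorProduct.map_tmul, AlgHom.id_apply, hΛ, coeff_degMap]; rfl
  | add s s' hs hs' => simp only [map_add, Polynomial.coeff_add, hs, hs']

/-- A product with a homogeneous factor. -/
lemma homogeneousComponent_mul {e : ℕ} (j : ℕ) (g : MvPolynomial (Fin d) A) {s : MvPolynomial (Fin d) A}
    (hs : s.IsHomogeneous e) : MvPolynomial.homogeneousComponent j (g * s) =
      if e ≤ j then MvPolynomial.homogeneousComponent (j - e) g * s else 0 := by
  induction g using MvPolynomial.induction_on' with
  | monomial t a =>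
    rw [MvPolynomial.homogeneousComponent_of_mem ((MvPolynomial.isHomogeneous_monomial (d := t) a rfl).mul hs),
      MvPolynomial.homogeneousComponent_of_mem (MvPolynomial.isHomogeneous_monomial (d := t) a rfl)]
    by_cases h1 : j = t.degree + e
    · rw [if_pos h1, if_pos (by omega), if_pos (by omega)]
    · rw [if_neg h1]
      split_ifs with h2 h3
      · omega
      · simp
      · rfl
  | add p q hp hq => simp only [add_mul, map_add, hp, hq]; split_ifs <;> simp

/-- Invariant polynomials are generated over the invariant constants by finitely many invariants. -/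
theorem exists_poly_invariants_generators [IsNoetherianRing A] (hM : IsCorep (k := k) M)
    (hG : HopfRep.IsLinearlyReductive k H) :
    letI := polyComod (A := A) hM
    ∃ s : Finset (MvPolynomial (Fin d) A), (∀ f ∈ s, f ∈ HopfRep.fixedPts k H (MvPolynomial (Fin d) A)) ∧
      ∀ f ∈ HopfRep.fixedPts k H (MvPolynomial (Fin d) A), f ∈ Algebra.adjoin k
        ((IsScalarTower.toAlgHom k A (MvPolynomial (Fin d) A)) '' (GLin.invariants k H A : Set A) ∪ ↑s) := by
  classical
  letI := polyComod (A := A) hM
  haveI := polyCoactAlg (A := A) hM
  obtain ⟨r⟩ := nonempty_integral hG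
  let R := MvPolynomial (Fin d) A
  let S : Set R := {f | f ∈ HopfRep.fixedPts k H R ∧ ∃ e, 0 < e ∧ f.IsHomogeneous e}
  obtain ⟨s, hsS, hs⟩ := (Submodule.fg_span_iff_fg_span_finset_subset S).mp
    (IsNoetherian.noetherian (Submodule.span R S))
  have hmul : ∀ a b : R, HopfRep.Comod.coact (k := k) (A := H) (a * b) =
      HopfRep.Comod.coact (k := k) (A := H) a * HopfRep.Comod.coact (k := k) (A := H) b :=
    GLin.IsCoactAlg.coact_mul
  have hgen : ∀ j, ∀ f ∈ HopfRep.fixedPts k H R, f.IsHomogeneous j → f ∈ Algebra.adjoin k
      ((IsScalarTower.toAlgHom k A R) '' (GLin.invariants k H A : Set A) ∪ ↑s) := by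
    intro j
    induction j using Nat.strong_induction_on with
    | h j ih =>
      intro f hf hfj
      rcases Nat.eq_zero_or_pos j with rfl | hj
      · obtain ⟨c, rfl⟩ : ∃ c, MvPolynomial.C c = f := ⟨MvPolynomial.coeff 0 f, by
          rw [← MvPolynomial.homogeneousComponent_zero, MvPolynomial.homogeneousComponent_of_mem hfj, if_pos rfl]⟩
        refine Algebra.subset_adjoin (Or.inl ⟨c, ?_, rfl⟩)
        have h : polyCoact k A M (MvPolynomial.C c) = MvPolynomial.C c ⊗ₜ[k] (1 : H) := hf
        rw [polyCoact_C] at h
        have h2 := congrArg (Algebra.TensorProduct.map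
          ((MvPolynomial.aeval (R := A) (0 : Fin d → A)).restrictScalars k) (AlgHom.id k H)) h
        have e : ∀ t : A ⊗[k] H, Algebra.TensorProduct.map ((MvPolynomial.aeval (R := A) (0 : Fin d → A)).restrictScalars k)
            (AlgHom.id k H) (Algebra.TensorProduct.map (IsScalarTower.toAlgHom k A R) (AlgHom.id k H) t) = t := fun t => by
          induction t using TensorProduct.induction_on with
          | zero => simp
          | tmul b x => simp [R]
          | add a b ha hb => simp only [map_add, ha, hb]
        rw [e] at h2
        simp only [Algebra.TensorProduct.map_tmul, AlgHom.id_apply, AlgHom.restrictScalars_apply, MvPolynomial.aeval_C,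
          Algebra.algebraMap_self, RingHom.id_apply] at h2
        exact h2
      · have hmem : f ∈ Submodule.span R (s : Set R) := hs ▸ Submodule.subset_span ⟨hf, j, hj, hfj⟩
        obtain ⟨g, -, hg⟩ := Submodule.mem_span_finset.mp hmem
        rw [← reynolds_of_mem r hf, show f = MvPolynomial.homogeneousComponent j f by
          rw [MvPolynomial.homogeneousComponent_of_mem hfj, if_pos rfl], ← hg, map_sum, map_sum]
        refine sum_mem fun a ha => ?_
        obtain ⟨hafix, e, he, hae⟩ := hsS ha
        rw [smul_eq_mul, homogeneousComponent_mul j _ hae]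
        split_ifs with h1
        · rw [mul_comm, reynolds_mul r _ _ hmul hafix]
          refine mul_mem (Algebra.subset_adjoin (Or.inr ha)) (ih (j - e) (by omega) _ (reynolds_mem r _) ?_)
          have hn := reynolds_natural r (coact_homogeneousComponent (A := A) hM (j - e)) (g a)
          simp only [LinearMap.coe_restrictScalars] at hn
          rw [← hn]
          exact MvPolynomial.homogeneousComponent_isHomogeneous _ _
        · rw [map_zero]; exact zero_mem _
  refine ⟨s, fun f hf => (hsS hf).1, fun f hf => ?_⟩
  rw [← MvPolynomial.sum_homogeneousComponent f]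
  exact sum_mem fun j _ => hgen j _
    (mem_fixedPts_map r (coact_homogeneousComponent (A := A) hM j) hf) (MvPolynomial.homogeneousComponent_isHomogeneous j f)

section Main

variable {C : Type w'} [CommRing C] [Algebra k C] [HopfRep.Comod k H C] [GLin.IsCoactAlg k H C]
  [Algebra A C] [IsScalarTower k A C]

/-- Invariants of an equivariant finitely generated algebra over a Noetherian ring. -/
theorem exists_invariants_adjoin [IsNoetherianRing A] [Algebra.FiniteType A C]
    (hG : HopfRep.IsLinearlyReductive k H) (hAC : Hoch.IsComodHom H (IsScalarTower.toAlgHom k A C).toLinearMap) :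
    ∃ s : Finset C, GLin.invariants k H C =
      Algebra.adjoin k (⇑(algebraMap A C) '' ↑(GLin.invariants k H A) ∪ ↑s) := by
  classical
  obtain ⟨r⟩ := nonempty_integral hG
  obtain ⟨gens, hgens⟩ := (‹Algebra.FiniteType A C›).out
  obtain ⟨S, hS, hfin⟩ := exists_finite_subcomod_finset (K := k) (C := H) (V := C) gens
  let W := ofDSub S
  letI := ComodSub.Comod.restr (inferInstance : HopfRep.Comod k H C) W (isSubcomod_ofDSub S)
  let b := Module.finBasis k W
  let M := coMatrix (A := H) b
  let v : Fin (Module.finrank k W) → C := fun i => (b i : C)
  have hv : ∀ j, HopfRep.Comod.coact (k := k) (A := H) (v j) = ∑ i, v i ⊗ₜ[k] M i j := fun j => by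
    have h : W.subtype.rTensor H (HopfRep.Comod.coact (k := k) (A := H) (b j)) =
        HopfRep.Comod.coact (k := k) (A := H) (b j : C) :=
      ComodSub.restr_coact_coe (inferInstance : HopfRep.Comod k H C) W (isSubcomod_ofDSub S) (b j)
    rw [← h, coact_basis b, map_sum]
    exact Finset.sum_congr rfl fun i _ => rfl
  have hM : IsCorep (k := k) M := isCorep_coMatrix b
  letI := polyComod (A := A) hM
  haveI := polyCoactAlg (A := A) hM
  let π : MvPolynomial (Fin (Module.finrank k W)) A →ₐ[k] C := (MvPolynomial.aeval (R := A) v).restrictScalars k
  have hAC' : ∀ a : A, HopfRep.Comod.coact (k := k) (A := H) (algebraMap A C a) =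
      Algebra.TensorProduct.map (IsScalarTower.toAlgHom k A C) (AlgHom.id k H)
        (HopfRep.Comod.coact (k := k) (A := H) a) := fun a => by
    refine (LinearMap.congr_fun hAC a).trans ?_
    show (IsScalarTower.toAlgHom k A C).toLinearMap.rTensor H _ = _
    generalize HopfRep.Comod.coact (k := k) (A := H) a = t
    induction t using TensorProduct.induction_on with
    | zero => simp
    | tmul x y => simp
    | add x y hx hy => simp only [map_add, hx, hy]
  have hπσ : (Algebra.TensorProduct.map π (AlgHom.id k H)).comp (polyCoact k A M) =
      (GLin.coactAlgHom k H C).comp π := by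
    refine algHom_ext' (fun a => ?_) fun j => ?_
    · simp only [AlgHom.comp_apply, polyCoact_C, GLin.coactAlgHom_apply]
      rw [show π (MvPolynomial.C a) = algebraMap A C a by simp [π], hAC']
      generalize HopfRep.Comod.coact (k := k) (A := H) a = t
      induction t using TensorProduct.induction_on with
      | zero => simp
      | tmul x y => simp [π]
      | add x y hx hy => simp only [map_add, hx, hy]
    · simp only [AlgHom.comp_apply, polyCoact_X, GLin.coactAlgHom_apply, map_sum, Algebra.TensorProduct.map_tmul,
        AlgHom.id_apply]
      rw [show π (MvPolynomial.X j) = v j by simp [π], hv]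
      exact Finset.sum_congr rfl fun i _ => by simp [π]
  have hπ : Hoch.IsComodHom H π.toLinearMap := by
    refine LinearMap.ext fun f => ?_
    refine (AlgHom.congr_fun hπσ f).symm.trans ?_
    show _ = π.toLinearMap.rTensor H (polyCoact k A M f)
    rw [AlgHom.comp_apply]
    generalize polyCoact k A M f = t
    induction t using TensorProduct.induction_on with
    | zero => simp
    | tmul x y => simp
    | add x y hx hy => simp only [map_add, hx, hy]
  have hsurj : Function.Surjective π := by
    have h : (MvPolynomial.aeval (R := A) v).range = ⊤ := by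
      rw [eq_top_iff, ← hgens, Algebra.adjoin_le_iff]
      intro g hg
      have hw := congrArg (fun z : W => (z : C)) (b.sum_repr ⟨g, hS g hg⟩)
      simp only [Submodule.coe_sum, Submodule.coe_smul] at hw
      rw [← hw]
      exact sum_mem fun i _ => by
        rw [← IsScalarTower.algebraMap_smul A (b.repr _ i) (b i : C)]
        exact Subalgebra.smul_mem _ ((AlgHom.mem_range _).2 ⟨MvPolynomial.X i, MvPolynomial.aeval_X v i⟩) _
    intro c
    exact (h.ge Algebra.mem_top : c ∈ (MvPolynomial.aeval (R := A) v).range)
  obtain ⟨s, hs1, hs2⟩ := exists_poly_invariants_generators (A := A) hM hG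
  refine ⟨s.image π, le_antisymm (fun c hc => ?_) (Algebra.adjoin_le ?_)⟩
  · obtain ⟨f, rfl⟩ := hsurj c
    rw [← reynolds_of_mem r hc, show π f = π.toLinearMap f from rfl, ← reynolds_natural r hπ]
    have h : π (reynolds _ r f) ∈ Subalgebra.map π _ := ⟨_, hs2 _ (reynolds_mem r f), rfl⟩
    rw [AlgHom.map_adjoin, Set.image_union, Set.image_image, ← Finset.coe_image,
      show (fun x => π ((IsScalarTower.toAlgHom k A _) x)) = ⇑(algebraMap A C) from funext fun x => by simp [π]] at h
    exact h
  · rintro c (⟨a, ha, rfl⟩ | hc)
    · exact mem_fixedPts_map r hAC ha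
    · obtain ⟨f, hf, rfl⟩ := Finset.mem_image.1 hc
      exact mem_fixedPts_map r hπ (hs1 f hf)

end Main

end Groth.Agent.InvFG
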